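import Groth.Agent.Lib.KoszulBlow85.Alg
import Mathlib.RingTheory.Smooth.Basic
import Mathlib.RingTheory.Ideal.Quotient.Nilpotent
import Mathlib.LinearAlgebra.Matrix.NonsingularInverse
import Mathlib.RingTheory.Etale.Basic

/-!
# Blow-up charts of smooth pairs are smooth
-/

set_option autoImplicit false
set_option linter.style.haveILetI false
universe u

open MvPolynomial TensorProduct KaehlerDifferential

namespace Groth.Agent.Lib.SmoothBlow85

variable {R A : Type u} [CommRing R] [CommRing A] [Algebra R A] {c : ℕ} (a : Fin c → A)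

/-- The differentials of generators of the conormal module of a smooth pair are part of a basis, to
first order. -/
theorem exists_retraction [Algebra.FormallySmooth R A]
    [Algebra.FormallySmooth R (A ⧸ Ideal.span (Set.range a))]
    (hq : CAlgX.IsQuasiRegular a) :
    ∃ r : Ω[A⁄R] →ₗ[A] (Fin c → A), ∀ i k,
      r (D R A (a i)) k - (if i = k then 1 else 0) ∈ Ideal.span (Set.range a) := by
  classical
  set I := Ideal.span (Set.range a) with hI
  have hf : Function.Surjective (algebraMap A (A ⧸ I)) := Ideal.Quotient.mk_surjective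
  set J := RingHom.ker (algebraMap A (A ⧸ I)) with hJ
  obtain ⟨l, hl⟩ := (Algebra.FormallySmooth.iff_split_injection (R := R) hf).mp inferInstance
  have hJI : J = I := Ideal.mk_ker
  let g : Fin c → J := fun i => ⟨a i, hJI.ge (Ideal.subset_span ⟨i, rfl⟩)⟩
  let π : (Fin c → A) →ₗ[A] J.Cotangent := Fintype.linearCombination A fun i => J.toCotangent (g i)
  have hπ : Function.Surjective π := fun y => by
    obtain ⟨⟨x, hx⟩, rfl⟩ := J.toCotangent_surjective y
    obtain ⟨w, rfl⟩ := (Ideal.mem_span_range_iff_exists_fun).mp (hJI.le hx)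
    refine ⟨w, ?_⟩
    simp only [π, Fintype.linearCombination_apply, ← map_smul, ← map_sum]
    congr 1
    exact Subtype.ext (by simp [g])
  let h : Ω[A⁄R] →ₗ[A] J.Cotangent := l ∘ₗ TensorProduct.mk A (A ⧸ I) Ω[A⁄R] 1
  obtain ⟨r, hr⟩ := Module.projective_lifting_property π h hπ
  refine ⟨r, fun i k => ?_⟩
  have h1 : h (D R A (a i)) = J.toCotangent (g i) := LinearMap.congr_fun hl (J.toCotangent (g i))
  have h2 : π (r (D R A (a i))) = π (Pi.single i 1) := by
    rw [← LinearMap.comp_apply, hr, h1]
    simp [π, Fintype.linearCombination_apply_single]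
  let v : Fin c → A := r (D R A (a i)) - Pi.single i 1
  have h3 : π v = 0 := by rw [map_sub, h2, sub_self]
  have h4 : ∑ k, v k * a k ∈ I ^ (1 + 1) := by
    simp only [π, Fintype.linearCombination_apply, ← map_smul, ← map_sum,
      Ideal.toCotangent_eq_zero] at h3
    simp only [g, Submodule.coe_sum, SetLike.val_smul, smul_eq_mul] at h3
    rw [hJI] at h3
    exact h3
  have h5 : v k ∈ I := by
    have hP : (∑ m, C (v m) * X m : MvPolynomial (Fin c) A).IsHomogeneous 1 :=
      IsHomogeneous.sum _ _ _ fun m _ => (isHomogeneous_X _ m).C_mul _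
    have h6 := hq 1 _ hP (by simpa [map_sum] using h4) (Finsupp.single k 1)
    simpa [coeff_sum, coeff_C_mul, coeff_X', Finsupp.single_left_inj, eq_comm] using h6
  simpa [v, Pi.single_apply, eq_comm] using h5

variable (j : Fin c)

/-- A chart of the blow-up of a smooth pair is smooth near the exceptional divisor. -/
theorem exists_smooth_chart_away [Algebra.FormallySmooth R A] [Algebra.FinitePresentation R A]
    (ha : CAlgX.IsH1Regular a) (r : Ω[A⁄R] →ₗ[A] (Fin c → A))
    (hr : ∀ i k, r (D R A (a i)) k - (if i = k then 1 else 0) ∈ Ideal.span (Set.range a)) :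
    ∃ Δ : BlowUp.affineAlgebra A (Ideal.span (Set.range a)) (a j),
      1 - Δ ∈ Ideal.span {algebraMap A (BlowUp.affineAlgebra A (Ideal.span (Set.range a)) (a j)) (a j)} ∧
      Algebra.Smooth R (Localization.Away Δ) := by
  classical
  let σ := {i : Fin c // i ≠ j}
  let M : Fin c → Fin c → A := fun i k => r (D R A (a i)) k
  let N : Matrix σ σ (MvPolynomial σ A) :=
    fun i k => C (M i.1 k.1) - KoszulBlow85.var j i.1 * C (M j k.1)
  set ev := H26.BlowChart.evalChart a j with hev
  let I := Ideal.span (Set.range a)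
  have hN : (Ideal.Quotient.mk (I.map C)).mapMatrix N = 1 := by
    ext i k
    simp only [RingHom.mapMatrix_apply, Matrix.map_apply, Matrix.one_apply]
    have h1 : Ideal.Quotient.mk (I.map C) (C (M i.1 k.1) : MvPolynomial σ A) =
        Ideal.Quotient.mk (I.map C) (C (if i.1 = k.1 then 1 else 0)) :=
      Ideal.Quotient.eq.mpr (by rw [← map_sub]; exact Ideal.mem_map_of_mem C (hr i.1 k.1))
    have h2 : Ideal.Quotient.mk (I.map C) (C (M j k.1) : MvPolynomial σ A) =
        Ideal.Quotient.mk (I.map C) (C (if j = k.1 then 1 else 0)) :=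
      Ideal.Quotient.eq.mpr (by rw [← map_sub]; exact Ideal.mem_map_of_mem C (hr j k.1))
    simp only [N, map_sub, map_mul, h1, h2, if_neg (Ne.symm k.2), map_zero, mul_zero, sub_zero,
      Subtype.coe_inj]
    split_ifs <;> simp
  refine ⟨ev N.det, ?_, ?_⟩
  · have hdet : 1 - N.det ∈ I.map C := by
      rw [← Ideal.Quotient.eq_zero_iff_mem, map_sub, map_one, RingHom.map_det, hN, Matrix.det_one,
        sub_self]
    have h1 := Ideal.mem_map_of_mem ev.toRingHom hdet
    rw [map_sub, map_one, Ideal.map_map] at h1
    rwa [show ev.toRingHom.comp C = algebraMap A _ from RingHom.ext fun x => by simp [hev],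
      BlowUpExists.map_ideal_eq_span _ _ (H26.BlowChart.mem_span_range a j)] at h1
  set Δ := ev N.det
  let B := BlowUp.affineAlgebra A (Ideal.span (Set.range a)) (a j)
  have hker : RingHom.ker ev.toRingHom = KoszulBlow85.rel a j := KoszulBlow85.ker_evalChart a j ha
  have hsur : Function.Surjective ev := H26.BlowChart.evalChart_surjective a j
  haveI : Algebra.FinitePresentation A B :=
    Algebra.FinitePresentation.of_surjective hsur
      (hker ▸ Submodule.fg_span (Set.finite_range _))
  haveI : Algebra.FinitePresentation R B := Algebra.FinitePresentation.trans R A B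
  haveI : Algebra.FinitePresentation B (Localization.Away Δ) :=
    IsLocalization.Away.finitePresentation Δ
  haveI : Algebra.FinitePresentation R (Localization.Away Δ) :=
    Algebra.FinitePresentation.trans R B (Localization.Away Δ)
  haveI : Algebra.FormallySmooth R (Localization.Away Δ) := by
    refine Algebra.FormallySmooth.of_comp_surjective fun S _ _ J hJ φ => ?_
    let φB : B →ₐ[R] S ⧸ J := φ.comp (IsScalarTower.toAlgHom R B (Localization.Away Δ))
    obtain ⟨α, hα⟩ := Algebra.FormallySmooth.comp_surjective R A J hJ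
      (φB.comp (IsScalarTower.toAlgHom R A B))
    replace hα : ∀ x, Ideal.Quotient.mk J (α x) = φB (algebraMap A B x) :=
      fun x => AlgHom.congr_fun hα x
    choose t ht using fun i : σ => Ideal.Quotient.mk_surjective (φB (ev (X i)))
    let θ : MvPolynomial σ A →+* S := eval₂Hom α.toRingHom t
    have hθ : (Ideal.Quotient.mk J).comp θ = φB.toRingHom.comp ev.toRingHom := by
      refine MvPolynomial.ringHom_ext (fun x => ?_) fun i => ?_
      · simp [θ, hα, hev]
        rfl
      · simp [θ, ht]
    have hsq : ∀ {x y : S}, x ∈ J → y ∈ J → x * y = 0 := fun {x y} hx hy => by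
      have h : x * y ∈ J ^ 2 := by rw [pow_two]; exact Ideal.mul_mem_mul hx hy
      rwa [hJ] at h
    have hu : IsUnit (N.map θ).det := by
      have h1 : IsUnit (Ideal.Quotient.mk J (θ N.det)) := by
        rw [← RingHom.comp_apply, hθ]
        exact (IsLocalization.Away.algebraMap_isUnit (S := Localization.Away Δ) Δ).map φ
      rw [IsNilpotent.isUnit_quotient_mk_iff ⟨2, hJ⟩, RingHom.map_det] at h1
      exact h1
    let ε : σ → S := fun i => α (a j) * t i - α (a i.1)
    have hε : ∀ i, ε i ∈ J := fun i => by
      rw [← Ideal.Quotient.eq_zero_iff_mem]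
      have h := DFunLike.congr_fun hθ (C (a j) * X i - C (a i.1))
      simp only [RingHom.comp_apply, θ, map_sub, map_mul, eval₂Hom_C, eval₂Hom_X'] at h
      refine (h.trans ?_ : Ideal.Quotient.mk J (ε i) = 0) |> fun h => h
      have h2 : C (a j) * X i - C (a i.1) ∈ RingHom.ker ev.toRingHom := by
        rw [hker]
        simpa [KoszulBlow85.var, i.2] using KoszulBlow85.rel_mem a j i.1
      have h3 := congrArg φB (RingHom.mem_ker.mp h2)
      simpa using h3
    let z : σ → S := (N.map θ)⁻¹.mulVec ε
    have hz : ∀ k, z k ∈ J := fun k => by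
      show ((N.map θ)⁻¹.mulVec ε) k ∈ J
      simp only [Matrix.mulVec, dotProduct]
      exact Ideal.sum_mem _ fun i _ => Ideal.mul_mem_left _ _ (hε i)
    have hNz : (N.map θ).mulVec z = ε := by
      rw [Matrix.mulVec_mulVec, Matrix.mul_nonsing_inv _ hu, Matrix.one_mulVec]
    let Dz : A → S := fun x => ∑ k : σ, z k * α (r (D R A x) k.1)
    have hDz : ∀ x, Dz x ∈ J := fun x => Ideal.sum_mem _ fun k _ => J.mul_mem_right _ (hz k)
    have hDmul : ∀ x y, Dz (x * y) = α x * Dz y + α y * Dz x := fun x y => by
      simp only [Dz, Derivation.leibniz, map_add, map_smul, Pi.add_apply, Pi.smul_apply,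
        smul_eq_mul, map_mul, mul_add, Finset.sum_add_distrib, Finset.mul_sum]
      congr 1 <;> exact Finset.sum_congr rfl fun k _ => by ring
    let α' : A →+* S :=
      { toFun := fun x => α x + Dz x
        map_one' := by simp [Dz]
        map_mul' := fun x y => by
          rw [map_mul, hDmul]
          linear_combination -(hsq (hDz x) (hDz y))
        map_zero' := by simp [Dz]
        map_add' := fun x y => by
          simp only [Dz, map_add, Pi.add_apply, mul_add, Finset.sum_add_distrib]
          ring }
    let θ' : MvPolynomial σ A →+* S := eval₂Hom α' t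
    have hzero : RingHom.ker ev.toRingHom ≤ RingHom.ker θ' := by
      rw [hker, KoszulBlow85.rel, Ideal.span_le]
      rintro _ ⟨i, rfl⟩
      show θ' (C (a j) * KoszulBlow85.var j i - C (a i)) = 0
      by_cases hij : i = j
      · subst hij
        simp [KoszulBlow85.var_self]
      · simp only [θ', KoszulBlow85.var, dif_neg hij, map_sub, map_mul, eval₂Hom_C, eval₂Hom_X']
        show (α (a j) + Dz (a j)) * t ⟨i, hij⟩ - (α (a i) + Dz (a i)) = 0
        have h1 : ε ⟨i, hij⟩ = ∑ k : σ, (α (M i k.1) - t ⟨i, hij⟩ * α (M j k.1)) * z k := by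
          rw [← congrFun hNz ⟨i, hij⟩]
          simp only [Matrix.mulVec, dotProduct]
          refine Finset.sum_congr rfl fun k _ => congrArg (· * z k) ?_
          show θ (N ⟨i, hij⟩ k) = _
          simp [N, θ, KoszulBlow85.var, hij]
        simp only [sub_mul, Finset.sum_sub_distrib] at h1
        have h2 : Dz (a i) = ∑ k : σ, α (M i k.1) * z k :=
          Finset.sum_congr rfl fun k _ => mul_comm _ _
        have h3 : Dz (a j) * t ⟨i, hij⟩ = ∑ k : σ, t ⟨i, hij⟩ * α (M j k.1) * z k := by
          rw [Finset.sum_mul]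
          exact Finset.sum_congr rfl fun k _ => by ring
        linear_combination h1 - h2 + h3
    let ψ : B →+* S := ev.toRingHom.liftOfSurjective hsur ⟨θ', hzero⟩
    have hψ : ∀ f, ψ (ev f) = θ' f := fun f => RingHom.liftOfRightInverse_comp_apply _ _ _ _ _
    have hψφ : ∀ b, Ideal.Quotient.mk J (ψ b) = φB b := fun b => by
      obtain ⟨f, rfl⟩ := hsur b
      rw [hψ]
      refine DFunLike.congr_fun (?_ : (Ideal.Quotient.mk J).comp θ' = φB.toRingHom.comp ev.toRingHom) f
      refine MvPolynomial.ringHom_ext (fun x => ?_) fun i => ?_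
      · simp [θ', α', hev, Ideal.Quotient.eq_zero_iff_mem.mpr (hDz x)]
        exact hα x
      · simp [θ', ht]
    have hψΔ : IsUnit (ψ Δ) := by
      rw [← IsNilpotent.isUnit_quotient_mk_iff ⟨2, hJ⟩, hψφ]
      exact (IsLocalization.Away.algebraMap_isUnit (S := Localization.Away Δ) Δ).map φ
    let Ψ : Localization.Away Δ →+* S := IsLocalization.Away.lift Δ hψΔ
    have hΨ : ∀ b, Ψ (algebraMap B _ b) = ψ b := fun b => IsLocalization.Away.lift_eq Δ hψΔ b
    refine ⟨{ Ψ with commutes' := fun x => ?_ }, ?_⟩
    · show Ψ (algebraMap R _ x) = _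
      rw [IsScalarTower.algebraMap_apply R B (Localization.Away Δ), hΨ,
        IsScalarTower.algebraMap_apply R A B]
      rw [show algebraMap A B (algebraMap R A x) = ev (C (algebraMap R A x)) by simp [hev]; rfl, hψ]
      simp [θ', α', Dz]
    · refine AlgHom.coe_ringHom_injective (IsLocalization.ringHom_ext (Submonoid.powers Δ) ?_)
      refine RingHom.ext fun b => ?_
      show Ideal.Quotient.mk J (Ψ (algebraMap B _ b)) = φB b
      rw [hΨ, hψφ]
  exact ⟨inferInstance, inferInstance⟩

end Groth.Agent.Lib.SmoothBlow85
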